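import Cfsg.Agent.H870.MEleven.Grp
import Cfsg.Agent.H906.Trace

/-!
# The fixed vector of the point stabiliser (helper870)

`exists_fix` : `ρ : K0 → M_ι(F)`, `|F| = 2`, spanning, `tr ρ(g) = fix(g) + 1`: the stabiliser of `0` fixes a non-zero vector.

The element `c = e (B - 1) e` of the group algebra, `e` the sum over the group `⟨E1, E2⟩` of order 9, acts on the permutation
module with 11 points as the matrix with entries `1` for `i, j ≠ 0` and `0` otherwise.
-/

set_option autoImplicit false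
set_option linter.unusedSectionVars false
set_option maxRecDepth 100000

namespace Cfsg.Agent.H870.MEleven

open Cfsg.Agent.SporadicB.AtlasPres.M11Rec Matrix

universe u

/-- the group of order 9 -/
def EL : List K0 := [1, gE1, gE1 * gE1, gE2, gE1 * gE2, gE1 * gE1 * gE2, gE2 * gE2, gE1 * gE2 * gE2,
  gE1 * gE1 * gE2 * gE2]

/-- the element of the group algebra -/
def CL : List K0 := (EL.flatMap fun h => EL.map fun k => h * gB * k) ++ EL

theorem CL_length : CL.length = 90 := rfl

/-- number of the members of a list mapping `j` to `i` -/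
def cnt (L : List K0) (i j : Fin 11) : ℕ := (L.filter fun c : K0 => decide ((c : Equiv.Perm (Fin 11)) j = i)).length

theorem cnt_CL : ∀ i j : Fin 11, cnt CL i j % 2 = if i ≠ 0 ∧ j ≠ 0 then 1 else 0 := by decide +kernel

variable {F : Type u} [Field F] [Fintype F]

theorem fixp_eq (g : K0) : (fixp g : F) = ∑ j : Fin 11, if (g : Equiv.Perm (Fin 11)) j = j then 1 else 0 := by
  rw [fixp, Finset.card_filter, Nat.cast_sum]
  refine Finset.sum_congr rfl fun j _ => ?_
  rw [Nat.cast_ite, Nat.cast_one, Nat.cast_zero]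

theorem sum_fixp (L : List K0) (k u : K0) : (L.map fun c => (fixp (k * c * u) : F)).sum =
    ∑ j : Fin 11, (cnt L ((k : Equiv.Perm (Fin 11))⁻¹ j) ((u : Equiv.Perm (Fin 11)) j) : F) := by
  induction L with
  | nil => simp [cnt]
  | cons a L ih =>
    rw [List.map_cons, List.sum_cons, ih, fixp_eq, ← Finset.sum_add_distrib]
    refine Finset.sum_congr rfl fun j _ => ?_
    have h1 : ((k * a * u : K0) : Equiv.Perm (Fin 11)) j = j ↔
        (a : Equiv.Perm (Fin 11)) ((u : Equiv.Perm (Fin 11)) j) = (k : Equiv.Perm (Fin 11))⁻¹ j := by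
      rw [Equiv.Perm.eq_inv_iff_eq]
      rfl
    unfold cnt
    rw [List.filter_cons]
    by_cases h : (a : Equiv.Perm (Fin 11)) ((u : Equiv.Perm (Fin 11)) j) = (k : Equiv.Perm (Fin 11))⁻¹ j
    · rw [if_pos (h1.2 h), if_pos (by simpa using h), List.length_cons]
      push_cast
      ring
    · rw [if_neg (fun h2 => h (h1.1 h2)), if_neg (by simpa using h), zero_add]

theorem cast_mod (hF : Fintype.card F = 2) (n : ℕ) : (n : F) = ((n % 2 : ℕ) : F) := by
  conv_lhs => rw [← Nat.div_add_mod n 2]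
  push_cast
  rw [two_eq_zero hF, zero_mul, zero_add]

theorem cast_cnt (hF : Fintype.card F = 2) (i j : Fin 11) : (cnt CL i j : F) = if i ≠ 0 ∧ j ≠ 0 then 1 else 0 := by
  rw [cast_mod hF, cnt_CL]
  split_ifs <;> simp

variable {ι : Type} [Fintype ι] [DecidableEq ι]

theorem trace_list (ρ : K0 →* Matrix ι ι F) (L : List K0) (k u : K0) :
    (ρ k * (L.map ρ).sum * ρ u).trace = (L.map fun c => (ρ (k * c * u)).trace).sum := by
  induction L with
  | nil => simp
  | cons a L ih =>
    rw [List.map_cons, List.sum_cons, mul_add, add_mul, Matrix.trace_add, ih, List.map_cons, List.sum_cons, map_mul,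
      map_mul]

theorem sum_add_one (L : List K0) (f : K0 → F) : (L.map fun c => f c + 1).sum = (L.map f).sum + (L.length : F) := by
  induction L with
  | nil => simp
  | cons a L ih =>
    rw [List.map_cons, List.sum_cons, ih, List.map_cons, List.sum_cons, List.length_cons]
    push_cast
    ring

theorem trace_CL (hF : Fintype.card F = 2) (ρ : K0 →* Matrix ι ι F) (hT : ∀ g, (ρ g).trace = (fixp g : F) + 1) (k u : K0)
    (hk : (k : Equiv.Perm (Fin 11)) 0 = 0) : (ρ k * (CL.map ρ).sum * ρ u).trace =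
      ∑ j : Fin 11, if j ≠ 0 ∧ (u : Equiv.Perm (Fin 11)) j ≠ 0 then 1 else 0 := by
  rw [trace_list, List.map_congr_left (g := fun c => (fixp (k * c * u) : F) + 1) (fun c _ => hT _), sum_add_one,
    CL_length, sum_fixp]
  have h90 : ((90 : ℕ) : F) = 0 := by
    rw [cast_mod hF]
    norm_num
  rw [h90, add_zero]
  refine Finset.sum_congr rfl fun j _ => ?_
  rw [cast_cnt hF]
  have h1 : (k : Equiv.Perm (Fin 11))⁻¹ j ≠ 0 ↔ j ≠ 0 := by
    rw [Ne, Equiv.Perm.inv_eq_iff_eq, hk]
  simp only [h1]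

/-- **The fixed vector.** -/
theorem exists_fix (hF : Fintype.card F = 2) (ρ : K0 →* Matrix ι ι F) (hs : Submodule.span F (Set.range ρ) = ⊤)
    (hT : ∀ g, (ρ g).trace = (fixp g : F) + 1) :
    ∃ v : ι → F, v ≠ 0 ∧ ∀ k : K0, (k : Equiv.Perm (Fin 11)) 0 = 0 → ρ k *ᵥ v = v := by
  set X := (CL.map ρ).sum with hX
  have h1 : ∀ u, (X * ρ u).trace = ∑ j : Fin 11, if j ≠ 0 ∧ (u : Equiv.Perm (Fin 11)) j ≠ 0 then 1 else 0 := by
    intro u
    have h := trace_CL hF ρ hT 1 u rfl
    rwa [map_one, one_mul] at h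
  have h2 : ∀ k : K0, (k : Equiv.Perm (Fin 11)) 0 = 0 → ρ k * X = X := by
    intro k hk
    rw [← sub_eq_zero]
    apply H906.eq_zero_of_trace_mul hs
    rintro _ ⟨u, rfl⟩
    rw [sub_mul, Matrix.trace_sub, h1, hX, trace_CL hF ρ hT k u hk, sub_self]
  have h3 : X ≠ 0 := by
    intro h0
    have h4 := h1 gX
    rw [h0, zero_mul, Matrix.trace_zero] at h4
    have h5 : (∑ j : Fin 11, if j ≠ 0 ∧ (gX : Equiv.Perm (Fin 11)) j ≠ 0 then (1 : F) else 0) = ((9 : ℕ) : F) := by
      rw [← Finset.sum_filter, Finset.sum_const, nsmul_eq_mul, mul_one]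
      congr 1
    rw [h5, cast_mod hF] at h4
    norm_num at h4
  obtain ⟨w, hw⟩ : ∃ w : ι → F, X *ᵥ w ≠ 0 := by
    by_contra hcon
    push Not at hcon
    apply h3
    apply Matrix.toLin'.injective
    apply LinearMap.ext
    intro w
    rw [Matrix.toLin'_apply, hcon w, map_zero, LinearMap.zero_apply]
  exact ⟨X *ᵥ w, hw, fun k hk => by rw [mulVec_mulVec, h2 k hk]⟩

end Cfsg.Agent.H870.MEleven
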