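import Mathlib

/-!
# Operators of order 11 on a vector space of dimension 10 over the field with two elements (helper870)

`A : Matrix ι ι F`, `|F| = 2`, `|ι| = 10`, `A ^ 11 = 1`, `A ≠ 1`.

* `inv_cases` : invariant subspaces are `0` and everything; `no_fix`, `sum_pow_eq_zero`;
* `trace_eq_one` : the trace is 1;
* `exists_aeval` : matrices commuting with `A` are polynomials in `A`;
* `comm_cases` : if `Y A = A ^ 4 Y`, then matrices commuting with `A` and `Y` are `0`, `1` or satisfy `Z ^ 2 + Z + 1 = 0`.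
-/

set_option autoImplicit false
set_option linter.unusedSectionVars false

namespace Cfsg.Agent.H870.MEleven

open Matrix Module Polynomial

universe u

variable {F : Type u} [Field F] [Fintype F] {ι : Type} [Fintype ι] [DecidableEq ι] {A : Matrix ι ι F}

/-! ### counting -/

theorem sq_eq (hF : Fintype.card F = 2) (a : F) : a ^ 2 = a := by
  have := FiniteField.pow_card a
  rwa [hF] at this

theorem two_eq_zero (hF : Fintype.card F = 2) : (2 : F) = 0 := by
  have := FiniteField.cast_card_eq_zero F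
  rw [hF] at this
  exact_mod_cast this

theorem add_self' (hF : Fintype.card F = 2) (a : F) : a + a = 0 := by
  rw [← two_mul, two_eq_zero hF, zero_mul]

theorem zero_or_one (hF : Fintype.card F = 2) (a : F) : a = 0 ∨ a = 1 := by
  have h := sq_eq hF a
  have h1 : a * (a - 1) = 0 := by linear_combination h
  rcases mul_eq_zero.1 h1 with h2 | h2
  · exact Or.inl h2
  · exact Or.inr (sub_eq_zero.1 h2)

/-- the trace of a square -/
theorem trace_sq (hF : Fintype.card F = 2) (M : Matrix ι ι F) : (M * M).trace = M.trace := by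
  have h := FiniteField.trace_pow_card M
  rw [hF, sq_eq hF, pow_two] at h
  exact h

/-- the fixed space -/
def fixS (A : Matrix ι ι F) : Submodule F (ι → F) := LinearMap.ker (Matrix.toLin' A - 1)

theorem mem_fixS {v : ι → F} : v ∈ fixS A ↔ A *ᵥ v = v := by
  rw [fixS, LinearMap.mem_ker, LinearMap.sub_apply, Matrix.toLin'_apply, sub_eq_zero]
  rfl

theorem modEq_fix (hF : Fintype.card F = 2) (hA : A ^ 11 = 1) {U : Submodule F (ι → F)} (hU : ∀ u ∈ U, A *ᵥ u ∈ U) :
    2 ^ finrank F U ≡ 2 ^ finrank F (U ⊓ fixS A : Submodule F (ι → F)) [MOD 11] := by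
  classical
  have : Fact (Nat.Prime 11) := ⟨by norm_num⟩
  let f : Function.End U := fun u => ⟨A *ᵥ u, hU u u.2⟩
  have hf : f ^ 11 ^ 1 = 1 := by
    funext u
    apply Subtype.ext
    have key : ∀ n : ℕ, (((f ^ n) u : U) : ι → F) = (A ^ n) *ᵥ (u : ι → F) := by
      intro n
      induction n with
      | zero => rw [pow_zero, pow_zero, one_mulVec]; rfl
      | succ n ih =>
        rw [pow_succ', pow_succ', ← mulVec_mulVec, ← ih]
        rfl
    rw [key, pow_one, hA, one_mulVec]
    rfl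
  have h1 := Equiv.Perm.card_fixedPoints_modEq (f := f) (p := 11) (n := 1) hf
  have h2 : Fintype.card U = 2 ^ finrank F U := by rw [Module.card_eq_pow_finrank (K := F), hF]
  have h3 : Fintype.card (Function.fixedPoints f) = 2 ^ finrank F (U ⊓ fixS A : Submodule F (ι → F)) := by
    rw [← hF, ← Module.card_eq_pow_finrank (K := F)]
    refine Fintype.card_congr ⟨fun u => ⟨(u : U), (u : U).2, mem_fixS.2 (congrArg Subtype.val u.2)⟩,
      fun u => ⟨⟨u, u.2.1⟩, Subtype.ext (mem_fixS.1 u.2.2)⟩, fun _ => rfl, fun _ => rfl⟩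
  rw [h2, h3] at h1
  exact h1

theorem dim_cases : ∀ u f : Fin 11, 2 ^ (u : ℕ) % 11 = 2 ^ (f : ℕ) % 11 → (u : ℕ) = f ∨ ((u : ℕ) = 10 ∧ (f : ℕ) = 0) ∨
    ((u : ℕ) = 0 ∧ (f : ℕ) = 10) := by decide

theorem finrank_cases (hF : Fintype.card F = 2) (hι : Fintype.card ι = 10) (hA : A ^ 11 = 1)
    {U : Submodule F (ι → F)} (hU : ∀ u ∈ U, A *ᵥ u ∈ U) : U ≤ fixS A ∨ (U = ⊤ ∧ U ⊓ fixS A = ⊥) := by
  have h1 := modEq_fix hF hA hU
  have h2 : finrank F U ≤ 10 := by
    have := Submodule.finrank_le U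
    rwa [Module.finrank_fintype_fun_eq_card, hι] at this
  have h3 : finrank F (U ⊓ fixS A : Submodule F (ι → F)) ≤ finrank F U := Submodule.finrank_mono inf_le_left
  rcases dim_cases ⟨finrank F U, by omega⟩ ⟨finrank F (U ⊓ fixS A : Submodule F (ι → F)), by omega⟩ h1 with h | h | h
  · left
    have h4 : U ⊓ fixS A = U := Submodule.eq_of_le_of_finrank_eq inf_le_left h.symm
    exact inf_eq_left.1 h4
  · right
    refine ⟨?_, Submodule.finrank_eq_zero.1 h.2⟩
    apply Submodule.eq_top_of_finrank_eq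
    rw [Module.finrank_fintype_fun_eq_card, hι]
    exact h.1
  · exfalso
    have h4 := h.1
    have h5 := h.2
    simp only at h4 h5
    omega

theorem no_fix (hF : Fintype.card F = 2) (hι : Fintype.card ι = 10) (hA : A ^ 11 = 1) (hA1 : A ≠ 1) : fixS A = ⊥ := by
  rcases finrank_cases hF hι hA (U := ⊤) (fun _ _ => trivial) with h | h
  · exfalso
    apply hA1
    apply Matrix.toLin'.injective
    apply LinearMap.ext
    intro v
    rw [Matrix.toLin'_apply, Matrix.toLin'_one]
    exact mem_fixS.1 (h trivial)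
  · rw [← h.2, top_inf_eq]

theorem inv_cases (hF : Fintype.card F = 2) (hι : Fintype.card ι = 10) (hA : A ^ 11 = 1) (hA1 : A ≠ 1)
    {U : Submodule F (ι → F)} (hU : ∀ u ∈ U, A *ᵥ u ∈ U) : U = ⊥ ∨ U = ⊤ := by
  rcases finrank_cases hF hι hA hU with h | h
  · left
    rw [no_fix hF hι hA hA1] at h
    exact le_bot_iff.1 h
  · exact Or.inr h.1

theorem sum_pow_eq_zero (hF : Fintype.card F = 2) (hι : Fintype.card ι = 10) (hA : A ^ 11 = 1) (hA1 : A ≠ 1) :
    ∑ i ∈ Finset.range 11, A ^ i = 0 := by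
  have h1 : (A - 1) * ∑ i ∈ Finset.range 11, A ^ i = 0 := by rw [mul_geom_sum, hA, sub_self]
  rw [sub_mul, one_mul, sub_eq_zero] at h1
  apply Matrix.toLin'.injective
  apply LinearMap.ext
  intro v
  rw [Matrix.toLin'_apply, map_zero, LinearMap.zero_apply]
  have h2 : (∑ i ∈ Finset.range 11, A ^ i) *ᵥ v ∈ fixS A := by
    rw [mem_fixS, mulVec_mulVec, h1]
  rwa [no_fix hF hι hA hA1, Submodule.mem_bot] at h2

/-! ### the cyclic basis -/

section cyc

variable (hF : Fintype.card F = 2) (hι : Fintype.card ι = 10) (hA : A ^ 11 = 1) (hA1 : A ≠ 1)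

include hF hι hA hA1

theorem pow_ten (v : ι → F) : (A ^ 10) *ᵥ v = ∑ i : Fin 10, (A ^ (i : ℕ)) *ᵥ v := by
  have h1 := sum_pow_eq_zero hF hι hA hA1
  rw [Finset.sum_range_succ, Finset.sum_range] at h1
  have h2 := congrArg (fun M => M *ᵥ v) h1
  simp only [add_mulVec, zero_mulVec, Matrix.sum_mulVec] at h2
  have h3 := eq_neg_of_add_eq_zero_right h2
  rw [h3]
  have h4 : ∀ w : ι → F, -w = w := by
    intro w
    funext j
    rw [Pi.neg_apply, neg_eq_iff_add_eq_zero, add_self' hF]
  rw [h4]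

theorem span_pow {v : ι → F} (hv : v ≠ 0) : ⊤ ≤ Submodule.span F (Set.range fun i : Fin 10 => (A ^ (i : ℕ)) *ᵥ v) := by
  set U := Submodule.span F (Set.range fun i : Fin 10 => (A ^ (i : ℕ)) *ᵥ v) with hU
  have hmem : ∀ i : Fin 10, (A ^ (i : ℕ)) *ᵥ v ∈ U := fun i => Submodule.subset_span ⟨i, rfl⟩
  have h1 : ∀ u ∈ U, A *ᵥ u ∈ U := by
    intro u hu
    rw [hU] at hu
    induction hu using Submodule.span_induction with
    | mem x hx =>
      obtain ⟨i, rfl⟩ := hx
      simp only
      rw [mulVec_mulVec, ← pow_succ']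
      by_cases h9 : (i : ℕ) + 1 < 10
      · exact hmem ⟨i + 1, h9⟩
      · have h10 : (i : ℕ) + 1 = 10 := by omega
        rw [h10, pow_ten hF hι hA hA1]
        exact Submodule.sum_mem _ fun j _ => hmem j
    | zero => rw [mulVec_zero]; exact U.zero_mem
    | add x y _ _ hx hy => rw [mulVec_add]; exact U.add_mem hx hy
    | smul c x _ hx => rw [mulVec_smul]; exact U.smul_mem _ hx
  rcases inv_cases hF hι hA hA1 h1 with h | h
  · exfalso
    apply hv
    have h2 := hmem 0
    rw [h, Submodule.mem_bot] at h2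
    simpa using h2
  · exact h.ge

theorem trace_eq_one : A.trace = 1 := by
  obtain ⟨v, hv⟩ : ∃ v : ι → F, v ≠ 0 := by
    have : Nonempty ι := Fintype.card_pos_iff.1 (by rw [hι]; norm_num)
    exact exists_ne 0
  have hd : Fintype.card (Fin 10) = finrank F (ι → F) := by
    rw [Module.finrank_fintype_fun_eq_card, hι, Fintype.card_fin]
  let b := basisOfTopLeSpanOfCardEqFinrank (fun i : Fin 10 => (A ^ (i : ℕ)) *ᵥ v) (span_pow hF hι hA hA1 hv) hd
  have hb : ∀ i, b i = (A ^ (i : ℕ)) *ᵥ v := fun i => by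
    simp only [b, coe_basisOfTopLeSpanOfCardEqFinrank]
  have h1 : LinearMap.trace F (ι → F) (Matrix.toLin' A) = A.trace := Matrix.trace_toLin'_eq A
  rw [← h1, LinearMap.trace_eq_matrix_trace F b, Matrix.trace]
  have h2 : ∀ i : Fin 10, (LinearMap.toMatrix b b (Matrix.toLin' A)).diag i = if i = 9 then 1 else 0 := by
    intro i
    rw [Matrix.diag_apply, LinearMap.toMatrix_apply, Matrix.toLin'_apply, hb, mulVec_mulVec, ← pow_succ']
    by_cases h9 : (i : ℕ) + 1 < 10
    · have h3 : (A ^ ((i : ℕ) + 1)) *ᵥ v = b ⟨(i : ℕ) + 1, h9⟩ := (hb ⟨(i : ℕ) + 1, h9⟩).symm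
      rw [h3, Basis.repr_self, Finsupp.single_apply, if_neg, if_neg]
      · intro h4
        rw [h4] at h9
        exact absurd h9 (by decide)
      · intro h4
        have := congrArg Fin.val h4
        simp only at this
        omega
    · have h10 : (i : ℕ) + 1 = 10 := by omega
      have hi : i = 9 := Fin.ext (by
        show (i : ℕ) = 9
        omega)
      rw [h10, pow_ten hF hι hA hA1, if_pos hi]
      simp only [← hb, map_sum, Basis.repr_self, Finsupp.coe_finsetSum, Finset.sum_apply, Finsupp.single_apply,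
        Finset.sum_ite_eq', Finset.mem_univ, if_true]
  simp only [h2, Finset.sum_ite_eq', Finset.mem_univ, if_true]

/-- matrices commuting with `A` are polynomials in `A` -/
theorem exists_aeval {Z : Matrix ι ι F} (hZ : Z * A = A * Z) : ∃ p : F[X], Z = aeval A p := by
  obtain ⟨v, hv⟩ : ∃ v : ι → F, v ≠ 0 := by
    have : Nonempty ι := Fintype.card_pos_iff.1 (by rw [hι]; norm_num)
    exact exists_ne 0
  let U : Submodule F (ι → F) :=
    { carrier := {w | ∃ q : F[X], w = (aeval A q) *ᵥ v}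
      add_mem' := by
        rintro _ _ ⟨q, rfl⟩ ⟨r, rfl⟩
        exact ⟨q + r, by rw [map_add, add_mulVec]⟩
      zero_mem' := ⟨0, by rw [map_zero, zero_mulVec]⟩
      smul_mem' := by
        rintro c _ ⟨q, rfl⟩
        exact ⟨c • q, by rw [map_smul, smul_mulVec]⟩ }
  have hU : U = ⊤ := by
    rcases inv_cases hF hι hA hA1 (U := U) (by
      rintro _ ⟨q, rfl⟩
      exact ⟨X * q, by rw [map_mul, aeval_X, mulVec_mulVec]⟩) with h | h
    · exfalso
      apply hv
      have h2 : v ∈ U := ⟨1, by rw [map_one, one_mulVec]⟩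
      rwa [h, Submodule.mem_bot] at h2
    · exact h
  have hall : ∀ w : ι → F, ∃ q : F[X], w = (aeval A q) *ᵥ v := by
    intro w
    have : w ∈ U := by rw [hU]; trivial
    exact this
  obtain ⟨p, hp⟩ := hall (Z *ᵥ v)
  refine ⟨p, ?_⟩
  have hc : ∀ q : F[X], Z * aeval A q = aeval A q * Z := by
    intro q
    have h1 : Commute Z A := hZ
    exact (Polynomial.aeval_eq_sum_range (R := F) (p := q) A ▸ (Commute.sum_right _ _ _ fun i _ =>
      (h1.pow_right i).smul_right _) : Commute Z (aeval A q))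
  apply Matrix.toLin'.injective
  apply LinearMap.ext
  intro w
  obtain ⟨q, rfl⟩ := hall w
  rw [Matrix.toLin'_apply, Matrix.toLin'_apply, mulVec_mulVec, hc, ← mulVec_mulVec, hp, mulVec_mulVec, mulVec_mulVec,
    ← map_mul, ← map_mul, mul_comm]

/-- a matrix commuting with `A` is zero or injective -/
theorem zero_or_inj {B C : Matrix ι ι F} (hB : B * A = A * B) (hBC : B * C = 0) : B = 0 ∨ C = 0 := by
  rcases inv_cases hF hι hA hA1 (U := LinearMap.ker (Matrix.toLin' B)) (by
    intro u hu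
    rw [LinearMap.mem_ker, Matrix.toLin'_apply] at hu ⊢
    rw [mulVec_mulVec, hB, ← mulVec_mulVec, hu, mulVec_zero]) with h | h
  · right
    apply Matrix.toLin'.injective
    apply LinearMap.ext
    intro w
    have h1 : C *ᵥ w ∈ LinearMap.ker (Matrix.toLin' B) := by
      rw [LinearMap.mem_ker, Matrix.toLin'_apply, mulVec_mulVec, hBC, zero_mulVec]
    rw [h, Submodule.mem_bot] at h1
    rw [Matrix.toLin'_apply, h1, map_zero, LinearMap.zero_apply]
  · left
    apply Matrix.toLin'.injective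
    rw [LinearMap.ker_eq_top.1 h, map_zero]

theorem comm_cases {Y Z : Matrix ι ι F} (hY : IsUnit Y) (hYA : Y * A = A ^ 4 * Y) (hZ : Z * A = A * Z)
    (hZY : Z * Y = Y * Z) : Z = 0 ∨ Z = 1 ∨ Z * Z + Z + 1 = 0 := by
  obtain ⟨p, hp⟩ := exists_aeval hF hι hA hA1 hZ
  have hpow : ∀ n : ℕ, Y * A ^ n = (A ^ 4) ^ n * Y := by
    intro n
    induction n with
    | zero => rw [pow_zero, pow_zero, mul_one, one_mul]
    | succ n ih =>
      calc Y * A ^ (n + 1) = (Y * A ^ n) * A := by rw [pow_succ A n, mul_assoc]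
        _ = (A ^ 4) ^ n * (Y * A) := by rw [ih, mul_assoc]
        _ = ((A ^ 4) ^ n * A ^ 4) * Y := by rw [hYA, mul_assoc]
        _ = (A ^ 4) ^ (n + 1) * Y := by rw [← pow_succ (A ^ 4) n]
  have h1 : Y * aeval A p = aeval (A ^ 4) p * Y := by
    rw [Polynomial.aeval_eq_sum_range, Polynomial.aeval_eq_sum_range, Finset.mul_sum, Finset.sum_mul]
    refine Finset.sum_congr rfl fun i _ => ?_
    rw [mul_smul_comm, hpow, smul_mul_assoc]
  have hsq : ∀ B : Matrix ι ι F, aeval (B ^ 2) p = (aeval B p) ^ 2 := by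
    intro B
    have h2 := FiniteField.expand_card p
    rw [hF] at h2
    rw [← map_pow, ← h2, Polynomial.expand_aeval]
  have h2 : aeval (A ^ 4) p = Z ^ 4 := by
    rw [show 4 = 2 * 2 by norm_num, pow_mul, hsq, hsq, ← hp, ← pow_mul]
  rw [h2, ← hp, ← hZY] at h1
  have h3 : Z = Z ^ 4 := hY.mul_right_cancel h1
  have h4 : (Z : Matrix ι ι F) * ((Z - 1) * (Z * Z + Z + 1)) = 0 := by
    have : Z * ((Z - 1) * (Z * Z + Z + 1)) = Z ^ 4 - Z := by noncomm_ring
    rw [this, ← h3, sub_self]
  rcases zero_or_inj hF hι hA hA1 hZ h4 with h | h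
  · exact Or.inl h
  · have h5 : (Z - 1) * A = A * (Z - 1) := by rw [sub_mul, mul_sub, hZ, one_mul, mul_one]
    rcases zero_or_inj hF hι hA hA1 h5 h with h | h
    · exact Or.inr (Or.inl (sub_eq_zero.1 h))
    · exact Or.inr (Or.inr h)

end cyc

end Cfsg.Agent.H870.MEleven
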