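import Cfsg.Agent.SporadicB.AtlasPres.M11Rec
import Cfsg.Agent.H6.M11.Reps
import Cfsg.Agent.TwoGenCore.IsoMEleven
import Cfsg.Agent.H870.MEleven.Lin

/-!
# Class functions on the Mathieu group of degree 11 (helper870)

`K0` is the group generated by two explicit permutations of `Fin 11`.
`TF.eq` : a class function `T : K0 → F`, `|F| = 2`, `T (a a) = T a`, `T 1 = 0`, whose sums over the cosets `⟨X⟩ g` vanish, is
`τ (fix + 1)`.
-/

set_option autoImplicit false
set_option linter.unusedSectionVars false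
set_option maxRecDepth 100000

namespace Cfsg.Agent.H870.MEleven

open Cfsg.Agent.SporadicB.AtlasPres.M11Rec

universe u

theorem isM11 : Cfsg.IsM11 K0 := ⟨simple, card_eq⟩

instance finite_K0 : Finite K0 := Nat.finite_of_card_ne_zero (by rw [card_eq]; norm_num)

theorem isoM11 : Cfsg.Spor.IsoM11 K0 := TwoGenCore.IsoMEleven.isoM11 isM11

/-- order 11 -/
def pX : Equiv.Perm (Fin 11) := ⟨![10, 0, 1, 2, 3, 4, 5, 6, 7, 8, 9], ![1, 2, 3, 4, 5, 6, 7, 8, 9, 10, 0], by decide, by decide⟩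

theorem mX : pX ∈ K0 := by
  have h : pX = ew [0, 1] := by decide +kernel
  rw [h]; exact ew_mem _

def gX : K0 := ⟨pX, mX⟩

/-- order 5, normalises `X` -/
def pY : Equiv.Perm (Fin 11) := ⟨![6, 10, 3, 7, 0, 4, 8, 1, 5, 9, 2], ![4, 7, 10, 2, 5, 8, 0, 3, 6, 9, 1], by decide, by decide⟩

theorem mY : pY ∈ K0 := by
  have h : pY = ew [1, 0, 1, 1, 0, 1, 0, 1, 1, 0, 1, 0, 1, 0, 1, 0] := by decide +kernel
  rw [h]; exact ew_mem _

def gY : K0 := ⟨pY, mY⟩

/-- order 3 -/
def pD : Equiv.Perm (Fin 11) := ⟨![3, 7, 9, 10, 1, 5, 2, 4, 8, 6, 0], ![10, 4, 6, 0, 7, 5, 9, 1, 8, 2, 3], by decide, by decide⟩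

theorem mD : pD ∈ K0 := by
  have h : pD = ew [0, 1, 1, 0, 1, 1] := by decide +kernel
  rw [h]; exact ew_mem _

def gD : K0 := ⟨pD, mD⟩

/-- inverts `D` -/
def pS : Equiv.Perm (Fin 11) := ⟨![10, 2, 1, 3, 9, 5, 7, 6, 8, 4, 0], ![10, 2, 1, 3, 9, 5, 7, 6, 8, 4, 0], by decide, by decide⟩

theorem mS : pS ∈ K0 := by
  have h : pS = ew [0] := by decide +kernel
  rw [h]; exact ew_mem _

def gS : K0 := ⟨pS, mS⟩

/-- order 6 -/
def pX6 : Equiv.Perm (Fin 11) := ⟨![10, 9, 1, 0, 2, 8, 4, 6, 5, 7, 3], ![3, 2, 4, 10, 6, 8, 7, 9, 5, 1, 0], by decide, by decide⟩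

theorem mX6 : pX6 ∈ K0 := by
  have h : pX6 = ew [0, 1, 1] := by decide +kernel
  rw [h]; exact ew_mem _

def gX6 : K0 := ⟨pX6, mX6⟩

/-- order 8 -/
def pX8 : Equiv.Perm (Fin 11) := ⟨![7, 0, 9, 6, 8, 4, 5, 3, 1, 2, 10], ![1, 8, 9, 7, 5, 6, 3, 0, 4, 2, 10], by decide, by decide⟩

theorem mX8 : pX8 ∈ K0 := by
  have h : pX8 = ew [0, 1, 0, 1, 0, 1, 0, 2] := by decide +kernel
  rw [h]; exact ew_mem _

def gX8 : K0 := ⟨pX8, mX8⟩

/-- order 3, fixes 0 and 5 -/
def pE1 : Equiv.Perm (Fin 11) := ⟨![0, 9, 4, 2, 3, 5, 7, 10, 1, 8, 6], ![0, 8, 3, 4, 2, 5, 10, 6, 9, 1, 7], by decide, by decide⟩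

theorem mE1 : pE1 ∈ K0 := by
  have h : pE1 = ew [0, 1, 0, 1, 1, 0, 1, 0, 1, 1, 0] := by decide +kernel
  rw [h]; exact ew_mem _

def gE1 : K0 := ⟨pE1, mE1⟩

/-- order 3, commutes with `E1` -/
def pE2 : Equiv.Perm (Fin 11) := ⟨![0, 7, 9, 1, 8, 5, 4, 3, 6, 10, 2], ![0, 3, 10, 7, 6, 5, 8, 1, 4, 2, 9], by decide, by decide⟩

theorem mE2 : pE2 ∈ K0 := by
  have h : pE2 = ew [0, 1, 1, 0, 1, 0, 2, 0, 1, 0, 1, 0] := by decide +kernel
  rw [h]; exact ew_mem _

def gE2 : K0 := ⟨pE2, mE2⟩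

/-- fixes 0, moves 5 -/
def pB : Equiv.Perm (Fin 11) := ⟨![0, 10, 2, 1, 3, 9, 5, 7, 6, 8, 4], ![0, 3, 2, 4, 10, 6, 8, 7, 9, 5, 1], by decide, by decide⟩

theorem mB : pB ∈ K0 := by
  have h : pB = ew [1] := by decide +kernel
  rw [h]; exact ew_mem _

def gB : K0 := ⟨pB, mB⟩

/-- the coset `<X> R` has an odd number of elements of order 11 -/
def pR : Equiv.Perm (Fin 11) := ⟨![8, 10, 0, 2, 6, 3, 5, 9, 7, 1, 4], ![2, 9, 3, 5, 10, 6, 4, 8, 0, 7, 1], by decide, by decide⟩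

theorem mR : pR ∈ K0 := by
  have h : pR = ew [1, 0, 1, 0] := by decide +kernel
  rw [h]; exact ew_mem _

def gR : K0 := ⟨pR, mR⟩

theorem coe_eq {a b : K0} (h : (a : Equiv.Perm (Fin 11)) = b) : a = b := Subtype.ext h

theorem X_pow : gX ^ 11 = 1 := coe_eq (by
  show pX ^ 11 = 1
  decide +kernel)

theorem X_ne : gX ≠ 1 := fun h => absurd (show pX = 1 from congrArg Subtype.val h) (by decide +kernel)

theorem Y_pow : gY ^ 5 = 1 := coe_eq (by
  show pY ^ 5 = 1
  decide +kernel)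

theorem Y_ne : gY ≠ 1 := fun h => absurd (show pY = 1 from congrArg Subtype.val h) (by decide +kernel)

theorem order_X : orderOf gX = 11 := by
  have : Fact (Nat.Prime 11) := ⟨by norm_num⟩
  exact orderOf_eq_prime X_pow X_ne

theorem order_Y : orderOf gY = 5 := by
  have : Fact (Nat.Prime 5) := ⟨by norm_num⟩
  exact orderOf_eq_prime Y_pow Y_ne

theorem order_X8 : orderOf gX8 = 8 := by
  have : Fact (Nat.Prime 2) := ⟨Nat.prime_two⟩
  have h : orderOf gX8 = 2 ^ (2 + 1) := by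
    refine orderOf_eq_prime_pow ?_ ?_
    · intro h
      exact absurd (show pX8 ^ 2 ^ 2 = 1 from congrArg Subtype.val h) (by decide +kernel)
    · exact coe_eq (by
        show pX8 ^ 2 ^ (2 + 1) = 1
        decide +kernel)
  rw [h]; norm_num

theorem order_X6 : orderOf gX6 = 6 := by
  refine orderOf_eq_of_pow_and_pow_div_prime (by norm_num) ?_ ?_
  · exact coe_eq (by
      show pX6 ^ 6 = 1
      decide +kernel)
  · intro p hp hd
    have h4 : p = 2 ∨ p = 3 := by
      have h5 : p ∣ 2 * 3 := hd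
      rcases (Nat.Prime.dvd_mul hp).1 h5 with h6 | h6
      · exact Or.inl ((Nat.prime_dvd_prime_iff_eq hp (by norm_num)).1 h6)
      · exact Or.inr ((Nat.prime_dvd_prime_iff_eq hp (by norm_num)).1 h6)
    rcases h4 with rfl | rfl
    · intro h
      exact absurd (show pX6 ^ (6 / 2) = 1 from congrArg Subtype.val h) (by decide +kernel)
    · intro h
      exact absurd (show pX6 ^ (6 / 3) = 1 from congrArg Subtype.val h) (by decide +kernel)

theorem YX : gY * gX = gX ^ 4 * gY := coe_eq (by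
  show pY * pX = pX ^ 4 * pY
  decide +kernel)

theorem SD_eq : gS * gD = gD * gD * gS := coe_eq (by
  show pS * pD = pD * pD * pS
  decide +kernel)

theorem D_order : orderOf gD = 3 := by
  have : Fact (Nat.Prime 3) := ⟨by norm_num⟩
  refine orderOf_eq_prime (coe_eq ?_) ?_
  · show pD ^ 3 = 1
    decide +kernel
  · intro h
    exact absurd (show pD = 1 from congrArg Subtype.val h) (by decide +kernel)

/-- number of fixed points -/
def fixp (g : K0) : ℕ := (Finset.univ.filter fun j : Fin 11 => (g : Equiv.Perm (Fin 11)) j = j).card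

theorem fixp_conj {a b : K0} (h : IsConj a b) : fixp a = fixp b := by
  obtain ⟨c, hc⟩ := isConj_iff.1 h
  unfold fixp
  refine Finset.card_bij (fun j _ => (c : Equiv.Perm (Fin 11)) j) ?_ ?_ ?_
  · intro j hj
    rw [Finset.mem_filter] at hj ⊢
    refine ⟨Finset.mem_univ _, ?_⟩
    have h0 : ((c : Equiv.Perm (Fin 11)))⁻¹ ((c : Equiv.Perm (Fin 11)) j) = j := Equiv.symm_apply_apply _ _
    rw [← hc, Subgroup.coe_mul, Subgroup.coe_mul, Subgroup.coe_inv, Equiv.Perm.mul_apply, Equiv.Perm.mul_apply, h0,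
      hj.2]
  · intro i _ j _ hij
    exact (c : Equiv.Perm (Fin 11)).injective hij
  · intro j hj
    rw [Finset.mem_filter] at hj
    refine ⟨((c : Equiv.Perm (Fin 11)))⁻¹ j, ?_, by simp⟩
    rw [Finset.mem_filter]
    refine ⟨Finset.mem_univ _, ?_⟩
    have h1 := hj.2
    rw [← hc, Subgroup.coe_mul, Subgroup.coe_mul, Subgroup.coe_inv, Equiv.Perm.mul_apply, Equiv.Perm.mul_apply] at h1
    rw [Equiv.Perm.eq_inv_iff_eq]
    exact h1

section

variable {F : Type u} [Field F] [Fintype F]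

/-- class functions that are traces of representations over the field with two elements -/
structure TF (T : K0 → F) : Prop where
  conj : ∀ a b, IsConj a b → T a = T b
  sq : ∀ a, T (a * a) = T a
  one : T 1 = 0

variable {T : K0 → F}

theorem TF.pow_two_pow (h : TF T) (a : K0) (n : ℕ) : T (a ^ 2 ^ n) = T a := by
  induction n with
  | zero => rw [pow_zero, pow_one]
  | succ n ih => rw [pow_succ, pow_mul, pow_two, h.sq, ih]

theorem TF.eight (h : TF T) {a : K0} (ha : orderOf a = 8) : T a = 0 := by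
  rw [← h.pow_two_pow a 3, show 2 ^ 3 = orderOf a by rw [ha]; norm_num, pow_orderOf_eq_one, h.one]

theorem TF.of_order (h : TF T) {a b : K0} (hab : orderOf a = orderOf b) : T a = T b := by
  refine H6.M11.eq_of_order isoM11 order_X6 order_X8 order_Y order_X T h.conj ?_ ?_ hab
  · rw [h.eight order_X8, h.eight (by rw [orderOf_inv]; exact order_X8)]
  · have h1 : gX⁻¹ = gX ^ 2 ^ 5 := by
      rw [inv_eq_iff_mul_eq_one, ← pow_succ', show 2 ^ 5 + 1 = 11 * 3 by norm_num, pow_mul, X_pow, one_pow]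
    rw [h1, h.pow_two_pow]

theorem TF.t8 (h : TF T) {a : K0} (ha : a ^ 8 = 1) : T a = 0 := by
  rw [← h.pow_two_pow a 3, show 2 ^ 3 = 8 by norm_num, ha, h.one]

theorem TF.t3 (h : TF T) {a : K0} (ha : a ^ 3 = 1) (ha1 : a ≠ 1) : T a = T gD := by
  have : Fact (Nat.Prime 3) := ⟨by norm_num⟩
  exact h.of_order ((orderOf_eq_prime ha ha1).trans D_order.symm)

theorem TF.t5 (h : TF T) {a : K0} (ha : a ^ 5 = 1) (ha1 : a ≠ 1) : T a = T gY := by
  have : Fact (Nat.Prime 5) := ⟨by norm_num⟩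
  exact h.of_order ((orderOf_eq_prime ha ha1).trans order_Y.symm)

theorem TF.t11 (h : TF T) {a : K0} (ha : a ^ 11 = 1) (ha1 : a ≠ 1) : T a = T gX := by
  have : Fact (Nat.Prime 11) := ⟨by norm_num⟩
  exact h.of_order ((orderOf_eq_prime ha ha1).trans order_X.symm)

theorem TF.t6 (h : TF T) {a : K0} (ha : a ^ 6 = 1) (ha1 : a ^ 2 ≠ 1) : T a = T gD := by
  have h1 : T (a ^ 4) = T a := h.pow_two_pow a 2
  rw [← h1]
  refine h.t3 ?_ ?_
  · rw [← pow_mul, show 4 * 3 = 6 * 2 by norm_num, pow_mul, ha, one_pow]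
  · intro h2
    apply ha1
    calc a ^ 2 = a ^ 2 * a ^ 4 := by rw [h2, mul_one]
      _ = 1 := by rw [← pow_add, ha]

theorem ne_one {a : K0} (h : (a : Equiv.Perm (Fin 11)) ≠ 1) : a ≠ 1 := fun h1 => h (congrArg Subtype.val h1)

theorem TF.cosetY (h : TF T) (i : ℕ) (hi : i < 11) : T (gX ^ i * gY) = T gY := by
  have key : ∀ i : Fin 11, (pX ^ (i : ℕ) * pY) ^ 5 = 1 ∧ pX ^ (i : ℕ) * pY ≠ 1 := by decide +kernel
  obtain ⟨h1, h2⟩ := key ⟨i, hi⟩
  exact h.t5 (coe_eq h1) (ne_one h2)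

variable (hF : Fintype.card F = 2)

include hF

theorem TF.Y_zero (h : TF T) (hN : ∀ g, ∑ i ∈ Finset.range 11, T (gX ^ i * g) = 0) : T gY = 0 := by
  have h1 := hN gY
  rw [Finset.sum_congr rfl (fun i hi => h.cosetY i (Finset.mem_range.1 hi)), Finset.sum_const, Finset.card_range,
    nsmul_eq_mul] at h1
  have h2 : ((11 : ℕ) : F) = 1 := by
    have h3 := two_eq_zero hF
    push_cast
    linear_combination 5 * h3
  rwa [h2, one_mul] at h1

theorem TF.D_eq_X (h : TF T) (hN : ∀ g, ∑ i ∈ Finset.range 11, T (gX ^ i * g) = 0) : T gD = T gX := by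
  have h5 := h.Y_zero hF hN
  have h1 := hN gR
  have e0 : T (gX ^ 0 * gR) = T gX := h.t11 (coe_eq (by
    show (pX ^ 0 * pR) ^ 11 = 1
    decide +kernel)) (ne_one (by
    show pX ^ 0 * pR ≠ 1
    decide +kernel))
  have e1 : T (gX ^ 1 * gR) = T gX := h.t11 (coe_eq (by
    show (pX ^ 1 * pR) ^ 11 = 1
    decide +kernel)) (ne_one (by
    show pX ^ 1 * pR ≠ 1
    decide +kernel))
  have e2 : T (gX ^ 2 * gR) = T gD := h.t3 (coe_eq (by
    show (pX ^ 2 * pR) ^ 3 = 1
    decide +kernel)) (ne_one (by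
    show pX ^ 2 * pR ≠ 1
    decide +kernel))
  have e3 : T (gX ^ 3 * gR) = 0 := h.t8 (coe_eq (by
    show (pX ^ 3 * pR) ^ 8 = 1
    decide +kernel))
  have e4 : T (gX ^ 4 * gR) = T gD := h.t6 (coe_eq (by
    show (pX ^ 4 * pR) ^ 6 = 1
    decide +kernel)) (ne_one (by
    show (pX ^ 4 * pR) ^ 2 ≠ 1
    decide +kernel))
  have e5 : T (gX ^ 5 * gR) = T gY := h.t5 (coe_eq (by
    show (pX ^ 5 * pR) ^ 5 = 1
    decide +kernel)) (ne_one (by
    show pX ^ 5 * pR ≠ 1
    decide +kernel))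
  have e6 : T (gX ^ 6 * gR) = T gD := h.t6 (coe_eq (by
    show (pX ^ 6 * pR) ^ 6 = 1
    decide +kernel)) (ne_one (by
    show (pX ^ 6 * pR) ^ 2 ≠ 1
    decide +kernel))
  have e7 : T (gX ^ 7 * gR) = T gX := h.t11 (coe_eq (by
    show (pX ^ 7 * pR) ^ 11 = 1
    decide +kernel)) (ne_one (by
    show pX ^ 7 * pR ≠ 1
    decide +kernel))
  have e8 : T (gX ^ 8 * gR) = 0 := h.t8 (coe_eq (by
    show (pX ^ 8 * pR) ^ 8 = 1
    decide +kernel))
  have e9 : T (gX ^ 9 * gR) = 0 := h.t8 (coe_eq (by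
    show (pX ^ 9 * pR) ^ 8 = 1
    decide +kernel))
  have e10 : T (gX ^ 10 * gR) = 0 := h.t8 (coe_eq (by
    show (pX ^ 10 * pR) ^ 8 = 1
    decide +kernel))
  simp only [Finset.sum_range_succ, Finset.sum_range_zero, e0, e1, e2, e3, e4, e5, e6, e7, e8, e9, e10, h5] at h1
  have h2 := two_eq_zero hF
  linear_combination h1 - (T gX * 2 + T gD) * h2

/-- **The class functions.** -/
theorem TF.eq (h : TF T) (hN : ∀ g, ∑ i ∈ Finset.range 11, T (gX ^ i * g) = 0) (g : K0) :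
    T g = T gX * ((fixp g : F) + 1) := by
  have h2 := two_eq_zero hF
  have h5 := h.Y_zero hF hN
  have h3 := h.D_eq_X hF hN
  obtain ⟨i, hi, -⟩ := H6.M11.exists_rep isoM11 order_X6 order_X8 order_Y order_X g
  rw [← h.conj _ _ hi, ← fixp_conj hi]
  have f0 : fixp (1 : K0) = 11 := by
    show (Finset.univ.filter fun j : Fin 11 => (1 : Equiv.Perm (Fin 11)) j = j).card = 11
    decide +kernel
  have f1 : fixp (gX6 ^ 3) = 3 := by
    show (Finset.univ.filter fun j : Fin 11 => (pX6 ^ 3) j = j).card = 3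
    decide +kernel
  have f2 : fixp (gX6 ^ 2) = 2 := by
    show (Finset.univ.filter fun j : Fin 11 => (pX6 ^ 2) j = j).card = 2
    decide +kernel
  have f3 : fixp (gX8 ^ 2) = 3 := by
    show (Finset.univ.filter fun j : Fin 11 => (pX8 ^ 2) j = j).card = 3
    decide +kernel
  have f4 : fixp gY = 1 := by
    show (Finset.univ.filter fun j : Fin 11 => pY j = j).card = 1
    decide +kernel
  have f5 : fixp gX6 = 0 := by
    show (Finset.univ.filter fun j : Fin 11 => pX6 j = j).card = 0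
    decide +kernel
  have f6 : fixp gX8 = 1 := by
    show (Finset.univ.filter fun j : Fin 11 => pX8 j = j).card = 1
    decide +kernel
  have f7 : fixp gX8⁻¹ = 1 := by
    show (Finset.univ.filter fun j : Fin 11 => (pX8⁻¹) j = j).card = 1
    decide +kernel
  have f8 : fixp gX = 0 := by
    show (Finset.univ.filter fun j : Fin 11 => pX j = j).card = 0
    decide +kernel
  have f9 : fixp gX⁻¹ = 0 := by
    show (Finset.univ.filter fun j : Fin 11 => (pX⁻¹) j = j).card = 0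
    decide +kernel
  have o8 : gX8 ^ 8 = 1 := by rw [← order_X8]; exact pow_orderOf_eq_one _
  have o6 : gX6 ^ 6 = 1 := by rw [← order_X6]; exact pow_orderOf_eq_one _
  have n6 : gX6 ^ 2 ≠ 1 := fun h0 => by
    have := orderOf_dvd_of_pow_eq_one h0
    rw [order_X6] at this
    norm_num at this
  fin_cases i
  · show T 1 = T gX * ((fixp (1 : K0) : F) + 1)
    rw [h.one, f0]
    push_cast
    linear_combination -6 * T gX * h2
  · show T (gX6 ^ 3) = T gX * ((fixp (gX6 ^ 3) : F) + 1)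
    rw [f1, h.t8 (by rw [← pow_mul, show 3 * 8 = 6 * 4 by norm_num, pow_mul, o6, one_pow])]
    push_cast
    linear_combination -2 * T gX * h2
  · show T (gX6 ^ 2) = T gX * ((fixp (gX6 ^ 2) : F) + 1)
    rw [f2, h.t3 (by rw [← pow_mul, o6]) n6, h3]
    push_cast
    linear_combination -T gX * h2
  · show T (gX8 ^ 2) = T gX * ((fixp (gX8 ^ 2) : F) + 1)
    rw [f3, h.t8 (by rw [← pow_mul, mul_comm, pow_mul, o8, one_pow])]
    push_cast
    linear_combination -2 * T gX * h2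
  · show T gY = T gX * ((fixp gY : F) + 1)
    rw [f4, h5]
    push_cast
    linear_combination -T gX * h2
  · show T gX6 = T gX * ((fixp gX6 : F) + 1)
    rw [f5, h.t6 o6 n6, h3]
    push_cast
    ring
  · show T gX8 = T gX * ((fixp gX8 : F) + 1)
    rw [f6, h.t8 o8]
    push_cast
    linear_combination -T gX * h2
  · show T gX8⁻¹ = T gX * ((fixp gX8⁻¹ : F) + 1)
    rw [f7, h.t8 (by rw [inv_pow, o8, inv_one])]
    push_cast
    linear_combination -T gX * h2
  · show T gX = T gX * ((fixp gX : F) + 1)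
    rw [f8]
    push_cast
    ring
  · show T gX⁻¹ = T gX * ((fixp gX⁻¹ : F) + 1)
    rw [f9, h.of_order (orderOf_inv gX)]
    push_cast
    ring

end

end Cfsg.Agent.H870.MEleven
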