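import Cfsg.Agent.H870.MEleven.Sharp
import Cfsg.Agent.UGT.End.MEleven
import Cfsg.Agent.H915.LD

/-!
# The Mathieu group of degree 11 in dimension 10 over the field with two elements (helper870)

`|F| = 2`, `|ι| = 10`, `G` isomorphic to the Mathieu group of degree 11, `φ : G →* GL ι F` not trivial.

* `absIrred_of_hom` : the image acts absolutely irreducibly;
* `exists_fixed_of_hom` : every subgroup of index 11 fixes a non-zero vector;
* `card_field` : a core isomorphic to the group of degree 11, self-dual, in characteristic two: `|F| = 2`.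
-/

set_option autoImplicit false
set_option linter.unusedSectionVars false

namespace Cfsg.Agent.H870.MEleven

open Cfsg Cfsg.Geo Matrix Cfsg.Agent.SporadicB.AtlasPres.M11Rec

universe u v

variable {F : Type u} [Field F] [Fintype F] {ι : Type} [Fintype ι] [DecidableEq ι]

section hom

variable (hF : Fintype.card F = 2) (hι : Fintype.card ι = 10) (φ : K0 →* GL ι F) (h : φ gX ≠ 1)

/-- the matrices of a representation -/
def mat (φ : K0 →* GL ι F) : K0 →* Matrix ι ι F := (Units.coeHom _).comp φ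

theorem mat_apply (φ : K0 →* GL ι F) (g : K0) : mat φ g = ((φ g : GL ι F) : Matrix ι ι F) := rfl

include hF hι h

theorem mat_pow : mat φ gX ^ 11 = 1 := by rw [← map_pow, X_pow, map_one]

omit hF hι in
theorem mat_ne : mat φ gX ≠ 1 := fun h0 => h (Units.ext h0)

theorem tf : TF (F := F) fun g => (mat φ g).trace where
  conj a b hab := by
    obtain ⟨c, hc⟩ := isConj_iff.1 hab
    rw [← hc, map_mul, Matrix.trace_mul_comm, ← map_mul]
    congr 2
    group
  sq a := by
    rw [map_mul, trace_sq hF]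
  one := by
    rw [map_one, Matrix.trace_one, hι]
    have := two_eq_zero hF
    push_cast
    linear_combination 5 * this

theorem coset_sum (g : K0) : ∑ i ∈ Finset.range 11, (mat φ (gX ^ i * g)).trace = 0 := by
  have h1 : ∀ i ∈ Finset.range 11, (mat φ (gX ^ i * g)).trace = ((mat φ gX) ^ i * mat φ g).trace := fun i _ => by
    rw [map_mul, map_pow]
  rw [Finset.sum_congr rfl h1, ← Matrix.trace_sum, ← Finset.sum_mul,
    sum_pow_eq_zero hF hι (mat_pow hF hι φ h) (mat_ne φ h), zero_mul, Matrix.trace_zero]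

/-- **The traces.** -/
theorem trace_eq (g : K0) : (mat φ g).trace = (fixp g : F) + 1 := by
  have h1 := (tf hF hι φ h).eq hF (coset_sum hF hι φ h) g
  rw [h1, trace_eq_one hF hι (mat_pow hF hι φ h) (mat_ne φ h), one_mul]

theorem trace_D : (mat φ gD).trace = 1 := by
  rw [trace_eq hF hι φ h]
  have f2 : fixp gD = 2 := by
    show (Finset.univ.filter fun j : Fin 11 => pD j = j).card = 2
    decide +kernel
  have := two_eq_zero hF
  rw [f2]
  push_cast
  linear_combination this

/-- **Absolute irreducibility.** -/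
theorem absIrred : ActsAbsolutelyIrreducibly (matrixSet φ.range) := by
  have hA := mat_pow hF hι φ h
  have hA1 := mat_ne φ h
  have hmem : ∀ g, mat φ g ∈ matrixSet φ.range := fun g => ⟨φ g, ⟨g, rfl⟩, rfl⟩
  refine ⟨fun W hW => ?_, fun M hM => ?_⟩
  · refine inv_cases hF hι hA hA1 fun u hu => ?_
    have := hW _ (hmem gX) ⟨u, hu, rfl⟩
    rwa [Matrix.toLin'_apply] at this
  · have hc : ∀ g, M * mat φ g = mat φ g * M := fun g => hM _ (hmem g)
    have hY : IsUnit (mat φ gY) := (φ gY).isUnit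
    have hS : IsUnit (mat φ gS) := (φ gS).isUnit
    rcases comm_cases hF hι hA hA1 hY (by rw [← map_pow, ← map_mul, ← map_mul, YX]) (hc gX) (hc gY) with h0 | h0 | h0
    · exact ⟨0, by rw [h0, zero_smul]⟩
    · exact ⟨1, by rw [h0, one_smul]⟩
    · exfalso
      have hsd : mat φ gS * mat φ gD = mat φ gD * mat φ gD * mat φ gS := by
        rw [← map_mul, SD_eq, map_mul, map_mul]
      have e1 : (M * (mat φ gD * mat φ gD)).trace = (M * mat φ gD).trace := by
        obtain ⟨U, hU⟩ := hS
        have e2 : mat φ gD * mat φ gD = (U : Matrix ι ι F) * mat φ gD * ((U⁻¹ : (Matrix ι ι F)ˣ) : Matrix ι ι F) := by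
          rw [hU, hsd, ← hU, mul_assoc (mat φ gD * mat φ gD), Units.mul_inv, mul_one]
        have e3 : M * (U : Matrix ι ι F) = (U : Matrix ι ι F) * M := by rw [hU]; exact hc gS
        rw [e2, mul_assoc, ← mul_assoc, e3, Matrix.trace_mul_comm, ← mul_assoc, mul_assoc (mat φ gD), Units.inv_mul,
          mul_one, Matrix.trace_mul_comm]
      have e2 : (M * mat φ gD).trace = (M * (mat φ gD * mat φ gD)).trace + (mat φ gD * mat φ gD).trace := by
        rw [← trace_sq hF (M * mat φ gD)]
        have e4 : M * mat φ gD * (M * mat φ gD) = M * M * (mat φ gD * mat φ gD) := by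
          rw [mul_assoc, ← mul_assoc (mat φ gD) M, ← hc gD, mul_assoc M (mat φ gD), ← mul_assoc M M]
        have e5 : M * M = M + 1 := by
          have e6 : ∀ N : Matrix ι ι F, N + N = 0 := by
            intro N
            ext i j
            exact add_self' hF _
          have e7 : M * M + (M + 1) = 0 := by rw [← add_assoc]; exact h0
          calc M * M = M * M + ((M + 1) + (M + 1)) := by rw [e6, add_zero]
            _ = (M * M + (M + 1)) + (M + 1) := by abel
            _ = M + 1 := by rw [e7, zero_add]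
        rw [e4, e5, add_mul, one_mul, Matrix.trace_add]
      rw [e1, trace_sq hF, trace_D hF hι φ h] at e2
      have e8 : (0 : F) = 1 := by linear_combination e2
      exact zero_ne_one e8

theorem span_mat : Submodule.span F (Set.range (mat φ)) = ⊤ := by
  rw [← Cfsg.Agent.H920.span_eq_top (absIrred hF hι φ h)]
  congr 1
  ext X
  constructor
  · rintro ⟨g, rfl⟩
    exact ⟨φ g, ⟨g, rfl⟩, rfl⟩
  · rintro ⟨_, ⟨g, rfl⟩, rfl⟩
    exact ⟨g, rfl⟩

theorem exists_fix_point (b : Fin 11) : ∃ v : ι → F, v ≠ 0 ∧ ∀ k ∈ MulAction.stabilizer K0 b, mat φ k *ᵥ v = v := by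
  obtain ⟨v, hv, hk⟩ := exists_fix hF (mat φ) (span_mat hF hι φ h) (trace_eq hF hι φ h)
  obtain ⟨g, hg⟩ : ∃ g : K0, g • (0 : Fin 11) = b := by
    have hx : ∀ b : Fin 11, ((gX ^ ((11 - (b : ℕ)) : ℕ) : K0) : Equiv.Perm (Fin 11)) 0 = b := by
      have key : ∀ b : Fin 11, (pX ^ (11 - (b : ℕ))) 0 = b := by decide +kernel
      exact key
    exact ⟨_, hx b⟩
  refine ⟨mat φ g *ᵥ v, ?_, ?_⟩
  · intro h0
    apply hv
    have h1 : mat φ g⁻¹ *ᵥ (mat φ g *ᵥ v) = v := by
      rw [mulVec_mulVec, ← map_mul, inv_mul_cancel, map_one, one_mulVec]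
    rw [← h1, h0, mulVec_zero]
  · intro k hkb
    have h1 : mat φ (g⁻¹ * k * g) *ᵥ v = v := by
      apply hk
      have h2 : (g⁻¹ * k * g) • (0 : Fin 11) = 0 := by
        rw [mul_smul, mul_smul, hg, MulAction.mem_stabilizer_iff.1 hkb, ← hg, inv_smul_smul]
      exact h2
    have h3 : k * g = g * (g⁻¹ * k * g) := by group
    rw [mulVec_mulVec, ← map_mul, h3, map_mul, ← mulVec_mulVec, h1]

end hom

section general

variable {G : Type v} [Group G]

theorem exists_equiv (hG : Spor.IsoM11 G) : Nonempty (G ≃* K0) := by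
  obtain ⟨e⟩ := hG
  obtain ⟨e'⟩ := isoM11
  exact ⟨e.trans e'.symm⟩

theorem injective_of_ne (hG : Spor.IsoM11 G) {H : Type*} [Group H] {φ : G →* H} (h : φ ≠ 1) : Function.Injective φ := by
  have : IsSimpleGroup G := (Cfsg.Agent.UGT.End.MEleven.isM11 hG).1
  rw [← MonoidHom.ker_eq_bot_iff]
  rcases this.eq_bot_or_eq_top_of_normal φ.ker inferInstance with h1 | h1
  · exact h1
  · exact absurd (MonoidHom.ker_eq_top_iff.1 h1) h

variable (hF : Fintype.card F = 2) (hι : Fintype.card ι = 10) (hG : Spor.IsoM11 G) (φ : G →* GL ι F) (h : φ ≠ 1)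

include hF hι hG h

theorem absIrred_of_hom : ActsAbsolutelyIrreducibly (matrixSet φ.range) := by
  obtain ⟨e⟩ := exists_equiv hG
  have h1 := absIrred hF hι (φ.comp e.symm.toMonoidHom) (by
    intro h0
    apply X_ne
    have h2 := injective_of_ne hG h (h0.trans (map_one φ).symm)
    exact e.symm.injective (h2.trans (map_one _).symm))
  have h2 : (φ.comp e.symm.toMonoidHom).range = φ.range := by
    ext x
    constructor
    · rintro ⟨g, rfl⟩
      exact ⟨e.symm g, rfl⟩
    · rintro ⟨g, rfl⟩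
      exact ⟨e g, congrArg φ (e.symm_apply_apply g)⟩
  rwa [h2] at h1

/-- **Every subgroup of index 11 fixes a non-zero vector.** -/
theorem exists_fixed_of_hom {K : Subgroup G} (hK : K.index = 11) :
    ∃ v : ι → F, v ≠ 0 ∧ ∀ k ∈ K, ((φ k : GL ι F) : Matrix ι ι F) *ᵥ v = v := by
  obtain ⟨e⟩ := exists_equiv hG
  obtain ⟨b, hb⟩ := exists_point (K := K.map e.toMonoidHom) ((Subgroup.index_map_equiv K e).trans hK)
  obtain ⟨v, hv, hk⟩ := exists_fix_point hF hι (φ.comp e.symm.toMonoidHom) (by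
    intro h0
    apply X_ne
    have h2 := injective_of_ne hG h (h0.trans (map_one φ).symm)
    exact e.symm.injective (h2.trans (map_one _).symm)) b
  refine ⟨v, hv, fun k hkK => ?_⟩
  have h1 := hk (e k) (by rw [← hb]; exact ⟨k, hkK, rfl⟩)
  rw [mat_apply] at h1
  have h2 : (φ.comp e.symm.toMonoidHom) (e k) = φ k := congrArg φ (e.symm_apply_apply k)
  rwa [h2] at h1

end general

/-- the subgroup version -/
theorem exists_fixed_of_subgroup (hF : Fintype.card F = 2) (hι : Fintype.card ι = 10) {P : Subgroup (GL ι F)}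
    (hP : Spor.IsoM11 P) {K : Subgroup P} (hK : K.index = 11) :
    ∃ v : ι → F, v ≠ 0 ∧ ∀ k ∈ K, (((k : P) : GL ι F) : Matrix ι ι F) *ᵥ v = v := by
  refine exists_fixed_of_hom hF hι hP P.subtype ?_ hK
  intro h0
  have h1 : ∀ g : P, g = 1 := fun g => Subtype.ext (congrFun (congrArg (fun f : P →* GL ι F => (f : P → GL ι F)) h0) g)
  have hc := (Cfsg.Agent.UGT.End.MEleven.isM11 hP).2
  have : Subsingleton P := ⟨fun a b => (h1 a).trans (h1 b).symm⟩
  rw [Nat.card_of_subsingleton (1 : P)] at hc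
  omega

/-! ### cores in characteristic two -/

open Cfsg.Agent.H915.LD

theorem card_field [CharP F 2] {P : Subgroup (GL ι F)} (hC : Core P) (hsd : SD P) (e : Spor.IsoM11 P) :
    Fintype.card F = 2 := by
  have : Fact (Nat.Prime 2) := ⟨Nat.prime_two⟩
  refine hC.card_eq 2 (Fr.of_reg' 2 ?_)
  intro g hg hreg
  obtain ⟨e1⟩ := exists_equiv e
  have o6 : orderOf (e1.symm gX6) = 6 := (MulEquiv.orderOf_eq _ _).trans order_X6
  have o8 : orderOf (e1.symm gX8) = 8 := (MulEquiv.orderOf_eq _ _).trans order_X8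
  have o5 : orderOf (e1.symm gY) = 5 := (MulEquiv.orderOf_eq _ _).trans order_Y
  have o11 : orderOf (e1.symm gX) = 11 := (MulEquiv.orderOf_eq _ _).trans order_X
  have h1 : tr g ^ 2 = tr (g ^ 2) := by
    have := tr_pow_char 2 g 1
    rw [pow_one] at this
    exact this.symm
  rw [h1]
  have hreg' : ¬ 2 ∣ orderOf (⟨g, hg⟩ : P) := by rwa [Subgroup.orderOf_mk]
  have h2 : orderOf ((⟨g, hg⟩ : P) ^ 2) = orderOf (⟨g, hg⟩ : P) := by
    rw [orderOf_pow, (Nat.Coprime.symm ((Nat.Prime.coprime_iff_not_dvd Nat.prime_two).2 hreg')).gcd_eq_one, Nat.div_one]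
  exact H6.M11.eq_of_order' e o6 o8 o5 o11 (fun g : P => tr (g : GL ι F)) (fun a b hab => tr_of_isConj hab)
    (hsd _ (e1.symm gX).2) (a := (⟨g, hg⟩ : P) ^ 2) (b := ⟨g, hg⟩) h2 (by
      rw [h2]
      intro h8
      apply hreg'
      rw [h8]
      norm_num)

end Cfsg.Agent.H870.MEleven
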