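import Cfsg.Agent.H870.MEleven.Main
import Cfsg.Agent.H933.O10.Base
import Cfsg.Agent.H6.M11.Stage11

/-!
# The Mathieu group of degree 11 is not maximal in `Ω₁₀(2^k)` (helper870, task 1700)

`V = F^10`, `|F| = 2`, `P` the group of degree 11: eleven vectors `v i` permuted by `P`; `v i + v j` is non-singular, the
products of two reflections in such vectors are in `Ω` and permute the `v i`: the stabiliser of the set of the `v i` in `Ω`
is larger than `P`; it is not `Ω`.
-/

set_option autoImplicit false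
set_option linter.unusedSectionVars false

namespace Cfsg.Agent.H870.MEleven

open Cfsg Cfsg.Geo Matrix Cfsg.Agent.SporadicB.AtlasPres.M11Rec
open QuadraticMap hiding proj
open Cfsg.Agent.LieClassical.OrthCore Cfsg.Agent.LieClassical.OrthTrans Cfsg.Agent.LieClassical.OrthFinite
open Cfsg.Agent.H915.LD
open Cfsg.Agent.SporadicA.SharpFour

universe u

variable {F : Type u} [Field F] [Fintype F] {ι : Type} [Fintype ι] [DecidableEq ι]

/-- eleven vectors permuted by `K0`, fixed by no other vectors -/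
structure Vecs (φ : K0 →* GL ι F) (v : Fin 11 → ι → F) : Prop where
  ne : ∀ i, v i ≠ 0
  map : ∀ g i, mat φ g *ᵥ v i = v (g • i)

theorem exists_vecs (hF : Fintype.card F = 2) (hι : Fintype.card ι = 10) (φ : K0 →* GL ι F) (h : φ gX ≠ 1) :
    ∃ v : Fin 11 → ι → F, Vecs φ v := by
  obtain ⟨v0, hv0, hk⟩ := exists_fix_point hF hι φ h 0
  have hx : ∀ b : Fin 11, (gX ^ ((11 - (b : ℕ)) : ℕ) : K0) • (0 : Fin 11) = b := by
    have key : ∀ b : Fin 11, (pX ^ (11 - (b : ℕ))) 0 = b := by decide +kernel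
    exact key
  refine ⟨fun i => mat φ (gX ^ ((11 - (i : ℕ)) : ℕ)) *ᵥ v0, fun i => ?_, fun g i => ?_⟩
  · intro h0
    apply hv0
    have h1 : mat φ (gX ^ ((11 - (i : ℕ)) : ℕ))⁻¹ *ᵥ (mat φ (gX ^ ((11 - (i : ℕ)) : ℕ)) *ᵥ v0) = v0 := by
      rw [mulVec_mulVec, ← map_mul, inv_mul_cancel, map_one, one_mulVec]
    rw [← h1, h0, mulVec_zero]
  · set a := (gX ^ ((11 - (i : ℕ)) : ℕ) : K0) with ha
    set b := (gX ^ ((11 - ((g • i : Fin 11) : ℕ)) : ℕ) : K0) with hb
    have h1 : mat φ (b⁻¹ * g * a) *ᵥ v0 = v0 := by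
      apply hk
      rw [MulAction.mem_stabilizer_iff, mul_smul, mul_smul, hx, inv_smul_eq_iff, hx]
    have h3 : g * a = b * (b⁻¹ * g * a) := by group
    rw [mulVec_mulVec, ← map_mul, h3, map_mul, ← mulVec_mulVec, h1]

section geo

variable {Q : QuadraticForm F (ι → F)} {φ : K0 →* GL ι F} {v : Fin 11 → ι → F}

/-- the Gram matrix -/
theorem Vecs.gram (hF : Fintype.card F = 2) (hι : Fintype.card ι = 10) (hφ : φ gX ≠ 1) (hv : Vecs φ v) (hQ : Nondeg Q)
    (hi : ∀ g x, Q (mat φ g *ᵥ x) = Q x) : (∀ i j, i ≠ j → polar Q (v i) (v j) = 1) ∧ (∀ i, polar Q (v i) (v i) = 0) ∧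
      ∀ i j, Q (v i) = Q (v j) := by
  have hpol : ∀ g x y, polar Q (mat φ g *ᵥ x) (mat φ g *ᵥ y) = polar Q x y := by
    intro g x y
    simp only [polar, ← mulVec_add, hi]
  have h0 : ∀ i, polar Q (v i) (v i) = 0 := by
    intro i
    rw [polar_self', two_eq_zero hF, zero_mul]
  have hoth : ∀ s : Finset (Fin 11), s.card ≤ 3 → ∃ c, c ∉ s := by
    intro s hs
    by_contra hcon
    push Not at hcon
    have h5 := Finset.card_le_card (fun y _ => hcon y : (Finset.univ : Finset (Fin 11)) ⊆ s)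
    rw [Finset.card_univ, Fintype.card_fin] at h5
    omega
  have hmap : ∀ i j i' j' : Fin 11, i ≠ j → i' ≠ j' → ∃ g : K0, g • i = i' ∧ g • j = j' := by
    intro i j i' j' hij hij'
    obtain ⟨c, hc⟩ := hoth {i, j} (Finset.card_le_two.trans (by norm_num))
    obtain ⟨d, hd⟩ := hoth {i, j, c} Finset.card_le_three
    obtain ⟨c', hc'⟩ := hoth {i', j'} (Finset.card_le_two.trans (by norm_num))
    obtain ⟨d', hd'⟩ := hoth {i', j', c'} Finset.card_le_three
    simp only [Finset.mem_insert, Finset.mem_singleton, not_or] at hc hd hc' hd'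
    obtain ⟨g, h1, h2, -⟩ := sharp4.exists_map i j c d i' j' c' d'
      (nodup4_iff.2 ⟨hij, Ne.symm hc.1, Ne.symm hd.1, Ne.symm hc.2, Ne.symm hd.2.1, Ne.symm hd.2.2⟩)
      (nodup4_iff.2 ⟨hij', Ne.symm hc'.1, Ne.symm hd'.1, Ne.symm hc'.2, Ne.symm hd'.2.1, Ne.symm hd'.2.2⟩)
    exact ⟨g, h1, h2⟩
  refine ⟨?_, h0, ?_⟩
  · have hconst : ∀ i j, i ≠ j → polar Q (v i) (v j) = polar Q (v 0) (v 1) := by
      intro i j hij
      obtain ⟨g, h1, h2⟩ := hmap 0 1 i j (by decide) hij
      rw [← h1, ← h2, ← hv.map, ← hv.map, hpol]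
    have hne : polar Q (v 0) (v 1) ≠ 0 := by
      intro hz
      apply hv.ne 0
      apply hQ
      intro y
      have hspan : Submodule.span F (Set.range v) = ⊤ := by
        rcases inv_cases hF hι (mat_pow hF hι φ hφ) (mat_ne φ hφ) (U := Submodule.span F (Set.range v)) (by
          intro u hu
          induction hu using Submodule.span_induction with
          | mem x hx =>
            obtain ⟨i, rfl⟩ := hx
            rw [hv.map]
            exact Submodule.subset_span ⟨_, rfl⟩
          | zero => rw [mulVec_zero]; exact Submodule.zero_mem _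
          | add x y _ _ hx hy => rw [mulVec_add]; exact Submodule.add_mem _ hx hy
          | smul c x _ hx => rw [mulVec_smul]; exact Submodule.smul_mem _ _ hx) with h | h
        · exfalso
          apply hv.ne 0
          have h1 : v 0 ∈ Submodule.span F (Set.range v) := Submodule.subset_span ⟨0, rfl⟩
          rwa [h, Submodule.mem_bot] at h1
        · exact h
      have hy : y ∈ Submodule.span F (Set.range v) := by rw [hspan]; trivial
      induction hy using Submodule.span_induction with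
      | mem x hx =>
        obtain ⟨i, rfl⟩ := hx
        by_cases h : 0 = i
        · rw [← h]; exact h0 0
        · rw [hconst 0 i h, hz]
      | zero => exact QuadraticMap.polar_zero_right Q _
      | add x y _ _ hx hy => rw [QuadraticMap.polar_add_right, hx, hy, add_zero]
      | smul c x _ hx => rw [QuadraticMap.polar_smul_right, hx, smul_zero]
    intro i j hij
    rw [hconst i j hij]
    exact (zero_or_one hF _).resolve_left hne
  · intro i j
    by_cases h : i = j
    · rw [h]
    · obtain ⟨g, h1, -⟩ := hmap i j j i h (Ne.symm h)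
      rw [← h1, ← hv.map, hi]

end geo

theorem not_maximal (hF : Fintype.card F = 2) (hι : Fintype.card ι = 10) {φ : K0 →* GL ι F} (hφ : φ gX ≠ 1)
    {Q : QuadraticForm F (ι → F)} (hQ : Nondeg Q) : ¬ IsMaximalIn (omegaGL (Q : (ι → F) → F)) φ.range := by
  intro hmax
  have hG : Good Q := Cfsg.Agent.H883.Bridge.good_of_card hQ (by rw [hι]; norm_num)
  obtain ⟨v, hv⟩ := exists_vecs hF hι φ hφ
  have hle : φ.range ≤ omegaGL (Q : (ι → F) → F) := hmax.1.le
  have hi : ∀ g x, Q (mat φ g *ᵥ x) = Q x := fun g x => H933.O10.fix_of_mem_omegaGL (hle ⟨g, rfl⟩) x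
  obtain ⟨hp1, hp0, hq⟩ := hv.gram hF hι hφ hQ hi
  have hinj : ∀ i j, v i = v j → i = j := by
    intro i j h
    by_contra hij
    have h1 := hp1 i j hij
    rw [h, hp0] at h1
    exact zero_ne_one h1
  have h2 := two_eq_zero hF
  -- the stabiliser of the set
  let L : Subgroup (GL ι F) :=
    { carrier := {g | g ∈ omegaGL (Q : (ι → F) → F) ∧ ∀ x, x ∈ Set.range v ↔ (g : Matrix ι ι F) *ᵥ x ∈ Set.range v}
      one_mem' := ⟨one_mem _, fun x => by rw [Units.val_one, one_mulVec]⟩
      mul_mem' := by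
        rintro a b ⟨ha, ha'⟩ ⟨hb, hb'⟩
        refine ⟨mul_mem ha hb, fun x => ?_⟩
        rw [hb', ha', mulVec_mulVec, Units.val_mul]
      inv_mem' := by
        rintro a ⟨ha, ha'⟩
        refine ⟨inv_mem ha, fun x => ?_⟩
        rw [ha' (((a⁻¹ : GL ι F) : Matrix ι ι F) *ᵥ x), mulVec_mulVec, ← Units.val_mul, mul_inv_cancel, Units.val_one,
          one_mulVec] }
  have hPL : φ.range ≤ L := by
    rintro _ ⟨g, rfl⟩
    refine ⟨hle ⟨g, rfl⟩, fun x => ?_⟩
    constructor
    · rintro ⟨i, rfl⟩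
      exact ⟨g • i, (hv.map g i).symm⟩
    · rintro ⟨i, hx⟩
      refine ⟨g⁻¹ • i, ?_⟩
      rw [← hv.map, hx, ← mat_apply, mulVec_mulVec, ← map_mul, inv_mul_cancel, map_one, one_mulVec]
  have hLO : L ≤ omegaGL (Q : (ι → F) → F) := fun g hg => hg.1
  -- the reflections
  have hQr : ∀ i j, i ≠ j → Q (v i + v j) = 1 := by
    intro i j hij
    rw [Q_add, hp1 i j hij, hq i j]
    linear_combination (Q (v j)) * h2
  have hQr0 : ∀ i j, i ≠ j → Q (v i + v j) ≠ 0 := fun i j hij => by rw [hQr i j hij]; exact one_ne_zero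
  have hr : ∀ (i j k : Fin 11) (hij : i ≠ j), refl Q (v i + v j) (hQr0 i j hij) (v k) = v (Equiv.swap i j k) := by
    intro i j k hij
    rw [refl_apply, hQr i j hij, inv_one, one_mul, QuadraticMap.polar_add_left]
    have hneg : ∀ x : ι → F, x + x = 0 := fun x => by
      funext t
      exact add_self' hF _
    by_cases hki : k = i
    · rw [hki, hp0, hp1 j i (Ne.symm hij), Equiv.swap_apply_left, zero_add, one_smul, sub_eq_iff_eq_add]
      rw [add_left_comm, hneg, add_zero]
    · by_cases hkj : k = j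
      · rw [hkj, hp0, hp1 i j hij, Equiv.swap_apply_right, add_zero, one_smul, sub_eq_iff_eq_add]
        rw [← add_assoc, hneg, zero_add]
      · rw [hp1 i k (Ne.symm hki), hp1 j k (Ne.symm hkj), Equiv.swap_apply_of_ne_of_ne hki hkj]
        have : (1 : F) + 1 = 0 := by linear_combination h2
        rw [this, zero_smul, sub_zero]
  let R : (ι → F) ≃ₗ[F] (ι → F) := refl Q (v 1 + v 2) (hQr0 1 2 (by decide)) * refl Q (v 0 + v 1) (hQr0 0 1 (by decide))
  have hRE : R ∈ E Q := hG.refl_mul_refl_mem _ _ (by rw [hQr 0 1 (by decide), hQr 1 2 (by decide)])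
  have hRv : ∀ k, R (v k) = v (Equiv.swap 1 2 (Equiv.swap 0 1 k)) := by
    intro k
    change refl Q (v 1 + v 2) (hQr0 1 2 (by decide)) (refl Q (v 0 + v 1) (hQr0 0 1 (by decide)) (v k)) = _
    rw [hr 0 1 k (by decide), hr 1 2 _ (by decide)]
  obtain ⟨r, hrR⟩ : ∃ r : GL ι F, glEquiv ι F r = R := (glEquiv ι F).surjective R
  have hap : ∀ x, (r : Matrix ι ι F) *ᵥ x = R x := fun x => by rw [← hrR]; exact (glEquiv_apply r x).symm
  have hrL : r ∈ L := by
    refine ⟨(Cfsg.Agent.H883.Bridge.mem_omegaGL_iff hG r).2 (by rw [hrR]; exact hRE), fun x => ?_⟩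
    rw [hap]
    constructor
    · rintro ⟨i, rfl⟩
      exact ⟨_, (hRv i).symm⟩
    · rintro ⟨i, hx⟩
      refine ⟨Equiv.swap 0 1 (Equiv.swap 1 2 i), R.injective ?_⟩
      rw [← hx, hRv, Equiv.swap_apply_self, Equiv.swap_apply_self]
  rcases hmax.2 L hPL hLO with h | h
  · -- `L = P`
    rw [h] at hrL
    obtain ⟨g, hg⟩ := hrL
    have hgi : ∀ k : Fin 11, g • k = Equiv.swap 1 2 (Equiv.swap 0 1 k) := by
      intro k
      apply hinj
      rw [← hv.map, mat_apply, hg, hap, hRv]
    have hg1 : g = 1 := sharp4.eq_one g 3 4 5 6 (by decide) (by rw [hgi]; decide) (by rw [hgi]; decide)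
      (by rw [hgi]; decide) (by rw [hgi]; decide)
    have h3 := hgi 0
    rw [hg1, one_smul] at h3
    revert h3
    decide
  · -- `L = Ω`
    have hw : ∀ j, polar Q (v 0 + v 1 + v 2 + v 3 + v 4) (v j) = if (j : ℕ) < 5 then 0 else 1 := by
      intro j
      simp only [QuadraticMap.polar_add_left]
      have hp : ∀ i, polar Q (v i) (v j) = if i = j then 0 else 1 := by
        intro i
        split_ifs with hij
        · rw [hij, hp0]
        · exact hp1 i j hij
      rw [hp, hp, hp, hp, hp]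
      have key : ∀ j : Fin 11, (((if (0 : Fin 11) = j then 0 else 1) + (if (1 : Fin 11) = j then 0 else 1) +
          (if (2 : Fin 11) = j then 0 else 1) + (if (3 : Fin 11) = j then 0 else 1) +
          (if (4 : Fin 11) = j then 0 else 1) : ℕ)) = (if (j : ℕ) < 5 then 4 else 5) := by decide
      have h5 := congrArg (fun n : ℕ => (n : F)) (key j)
      push_cast at h5
      rw [h5]
      split_ifs
      · linear_combination 2 * h2
      · linear_combination 2 * h2
    have hQw : Q (v 0 + v 1 + v 2 + v 3 + v 4) = Q (v 0) := by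
      simp only [Q_add, QuadraticMap.polar_add_left]
      rw [hp1 0 1 (by decide), hp1 0 2 (by decide), hp1 1 2 (by decide), hp1 0 3 (by decide), hp1 1 3 (by decide),
        hp1 2 3 (by decide), hp1 0 4 (by decide), hp1 1 4 (by decide), hp1 2 4 (by decide), hp1 3 4 (by decide),
        hq 1 0, hq 2 0, hq 3 0, hq 4 0]
      linear_combination (2 * Q (v 0) + 5) * h2
    have hw0 : v 0 + v 1 + v 2 + v 3 + v 4 ≠ 0 := by
      intro h0
      have h5 := hw 5
      rw [h0, QuadraticMap.polar_zero_left] at h5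
      simp at h5
    obtain ⟨g, hgE, hg⟩ := hG.trans_norm (hv.ne 0) hw0 hQw.symm
    obtain ⟨r', hr'⟩ : ∃ r : GL ι F, glEquiv ι F r = g := (glEquiv ι F).surjective g
    have hr'L : r' ∈ L := by
      rw [h]
      exact (Cfsg.Agent.H883.Bridge.mem_omegaGL_iff hG r').2 (by rw [hr']; exact hgE)
    obtain ⟨k, hk⟩ := (hr'L.2 (v 0)).1 ⟨0, rfl⟩
    have hk' : v k = v 0 + v 1 + v 2 + v 3 + v 4 := by
      rw [hk, ← hg, ← hr']
      exact (glEquiv_apply r' _).symm
    have h0 := hw 0
    have h1 := hw 1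
    rw [← hk'] at h0 h1
    have e0 : k = 0 := by
      by_contra hne
      rw [hp1 k 0 hne] at h0
      simp at h0
    have e1 : k = 1 := by
      by_contra hne
      rw [hp1 k 1 hne] at h1
      simp at h1
    rw [e0] at e1
    exact absurd e1 (by decide)

/-- **Task 1700**: the Mathieu group of degree 11 is not maximal in `Ω₁₀(2^k)`. -/
theorem o10_m11_two {Q : (Fin 10 → F) → F} {H P : Subgroup (GL (Fin 10) F)} (h : H933.O10.Cx 2 Q H P)
    (e : Spor.IsoM11 (Soc P)) : False := by
  have hchar : CharP F 2 := h.char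
  have hC := h.core
  obtain ⟨e1, -⟩ := H6.M11.exists_letters hC e
  have hP : Spor.IsoM11 P := ⟨e1⟩
  have hF : Fintype.card F = 2 := card_field hC h.sd hP
  have hι : Fintype.card (Fin 10) = 10 := Fintype.card_fin 10
  obtain ⟨e2⟩ := exists_equiv hP
  let φ : K0 →* GL (Fin 10) F := P.subtype.comp e2.symm.toMonoidHom
  have hφr : φ.range = P := by
    ext x
    constructor
    · rintro ⟨g, rfl⟩
      exact (e2.symm g).2
    · intro hx
      exact ⟨e2 ⟨x, hx⟩, congrArg Subtype.val (e2.symm_apply_apply ⟨x, hx⟩)⟩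
  have hφ1 : φ gX ≠ 1 := by
    intro h0
    apply X_ne
    have h1 : e2.symm gX = 1 := Subtype.ext h0
    exact e2.symm.injective (h1.trans (map_one _).symm)
  have hM11 := Cfsg.Agent.UGT.End.MEleven.isM11 hP
  have : Finite P := Nat.finite_of_card_ne_zero (by rw [hM11.2]; norm_num)
  -- `H = P`
  have hHP : H ≤ P := by
    intro x hx
    let α : P ≃* P :=
      { toFun := fun y => ⟨x * y * x⁻¹, h.hc.normal x hx y y.2⟩
        invFun := fun y => ⟨x⁻¹ * y * x, by
          have := h.hc.normal x⁻¹ (inv_mem hx) y y.2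
          rwa [inv_inv] at this⟩
        left_inv := fun y => Subtype.ext (by
          show x⁻¹ * (x * y * x⁻¹) * x = y
          group)
        right_inv := fun y => Subtype.ext (by
          show x * (x⁻¹ * y * x) * x⁻¹ = y
          group)
        map_mul' := fun y z => Subtype.ext (by
          show x * (y * z) * x⁻¹ = (x * y * x⁻¹) * (x * z * x⁻¹)
          group) }
    obtain ⟨k, hk⟩ := Cfsg.Agent.SectRankFour.AutM11.exists_conj hM11 α
    have hcomm : ∀ y : P, ((k : GL (Fin 10) F)⁻¹ * x) * y = y * ((k : GL (Fin 10) F)⁻¹ * x) := by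
      intro y
      have h1 := congrArg (fun β : P ≃* P => ((β y : P) : GL (Fin 10) F)) hk
      have h2 : x * y * x⁻¹ = k * y * (k : GL (Fin 10) F)⁻¹ := h1
      calc ((k : GL (Fin 10) F)⁻¹ * x) * y = (k : GL (Fin 10) F)⁻¹ * (x * y * x⁻¹) * x := by group
        _ = (k : GL (Fin 10) F)⁻¹ * (k * y * (k : GL (Fin 10) F)⁻¹) * x := by rw [h2]
        _ = y * ((k : GL (Fin 10) F)⁻¹ * x) := by group
    obtain ⟨c, hc⟩ := hC.absIrred.2 (((k : GL (Fin 10) F)⁻¹ * x : GL (Fin 10) F) : Matrix (Fin 10) (Fin 10) F) (by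
      rintro _ ⟨y, hy, rfl⟩
      have h1 := hcomm ⟨y, hy⟩
      have h2 := congrArg (fun z : GL (Fin 10) F => (z : Matrix (Fin 10) (Fin 10) F)) h1
      simpa using h2)
    rcases zero_or_one hF c with h0 | h0
    · exfalso
      rw [h0, zero_smul] at hc
      exact ((k : GL (Fin 10) F)⁻¹ * x).ne_zero hc
    · rw [h0, one_smul] at hc
      have h1 : (k : GL (Fin 10) F)⁻¹ * x = 1 := Units.ext hc
      have h2 : x = k := (inv_mul_eq_one.1 h1).symm
      rw [h2]
      exact k.2
  have hHP' : H = P := le_antisymm hHP h.hc.le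
  obtain ⟨R, hR, hRn⟩ := Cfsg.Agent.H883.Bridge.exists_quadraticForm h.hQ
  have hmax : IsMaximalIn (omegaGL (R : (Fin 10 → F) → F)) φ.range := by
    rw [hR, hφr, ← hHP']
    exact h.hH
  exact not_maximal hF hι hφ1 hRn hmax

end Cfsg.Agent.H870.MEleven
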