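import Cfsg.Agent.H870.MEleven.Fix
import Cfsg.Agent.SectRankFour.AutM11

/-!
# `K0` is sharply 4-transitive on 11 points (helper870)
-/

set_option autoImplicit false
set_option linter.unusedSectionVars false
set_option maxRecDepth 100000

namespace Cfsg.Agent.H870.MEleven

open Cfsg.Agent.SporadicB.AtlasPres.M11Rec Cfsg.Agent.SporadicA.SharpFour

theorem card_K4 : Nat.card K4 = 1 := by
  have s0 : (t0.map ew).length * Nat.card K1 ≤ Nat.card K0 := chain_step K0 0 (t0.map ew)
    (by
      intro w hw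
      obtain ⟨v, -, rfl⟩ := List.mem_map.1 hw
      exact ew_mem v) nd0
  have s1 : (t1.map ew).length * Nat.card K2 ≤ Nat.card K1 := chain_step K1 1 (t1.map ew)
    (by
      intro w hw
      obtain ⟨v, hv, rfl⟩ := List.mem_map.1 hw
      exact ⟨ew_mem v, fix1 v hv⟩) nd1
  have s2 : (t2.map ew).length * Nat.card K3 ≤ Nat.card K2 := chain_step K2 2 (t2.map ew)
    (by
      intro w hw
      obtain ⟨v, hv, rfl⟩ := List.mem_map.1 hw
      exact ⟨⟨ew_mem v, (fix2 v hv).1⟩, (fix2 v hv).2⟩) nd2
  have s3 : (t3.map ew).length * Nat.card K4 ≤ Nat.card K3 := chain_step K3 3 (t3.map ew)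
    (by
      intro w hw
      obtain ⟨v, hv, rfl⟩ := List.mem_map.1 hw
      exact ⟨⟨⟨ew_mem v, (fix3 v hv).1⟩, (fix3 v hv).2.1⟩, (fix3 v hv).2.2⟩) nd3
  have s4 : 1 ≤ Nat.card K4 := Nat.card_pos
  have hc := card_eq
  have l0 : (t0.map ew).length = 11 := by rw [List.length_map]; rfl
  have l1 : (t1.map ew).length = 10 := by rw [List.length_map]; rfl
  have l2 : (t2.map ew).length = 9 := by rw [List.length_map]; rfl
  have l3 : (t3.map ew).length = 8 := by rw [List.length_map]; rfl
  rw [l0] at s0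
  rw [l1] at s1
  rw [l2] at s2
  rw [l3] at s3
  have hc' : Nat.card K0 = 7920 := hc
  omega

theorem eq_one_of_fix {g : K0} (h0 : g • (0 : Fin 11) = 0) (h1 : g • (1 : Fin 11) = 1) (h2 : g • (2 : Fin 11) = 2)
    (h3 : g • (3 : Fin 11) = 3) : g = 1 := by
  have hm : (g : Equiv.Perm (Fin 11)) ∈ K4 := ⟨⟨⟨⟨g.2, h0⟩, h1⟩, h2⟩, h3⟩
  have h := Subgroup.card_eq_one.1 card_K4
  rw [h, Subgroup.mem_bot] at hm
  exact Subtype.ext hm

/-- the images of `0, 1, 2, 3` -/
def emb (g : K0) : Fin 4 ↪ Fin 11 :=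
  ⟨fun i => g • (i.castLE (by norm_num) : Fin 11), fun i j h => by
    have h1 : (i.castLE (by norm_num) : Fin 11) = j.castLE (by norm_num) := MulAction.injective g h
    have h2 : ((i.castLE (by norm_num) : Fin 11) : ℕ) = ((j.castLE (by norm_num) : Fin 11) : ℕ) := congrArg Fin.val h1
    exact Fin.ext h2⟩

theorem emb_injective : Function.Injective emb := by
  intro g h hgh
  have key : ∀ i : Fin 4, (h⁻¹ * g) • (i.castLE (by norm_num) : Fin 11) = i.castLE (by norm_num) := by
    intro i
    rw [mul_smul, inv_smul_eq_iff]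
    exact congrFun (congrArg (fun f : Fin 4 ↪ Fin 11 => (f : Fin 4 → Fin 11)) hgh) i
  have h1 : h⁻¹ * g = 1 := eq_one_of_fix (key 0) (key 1) (key 2) (key 3)
  exact (inv_mul_eq_one.1 h1).symm

theorem emb_surjective : Function.Surjective emb := by
  have h1 : Function.Bijective emb := by
    have := Fintype.ofFinite K0
    rw [Fintype.bijective_iff_injective_and_card]
    refine ⟨emb_injective, ?_⟩
    rw [← Nat.card_eq_fintype_card, card_eq, Fintype.card_embedding_eq, Fintype.card_fin, Fintype.card_fin]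
    decide
  exact h1.2

theorem exists_tuple {a b c d : Fin 11} (h : [a, b, c, d].Nodup) : ∃ g : K0, g • (0 : Fin 11) = a ∧
    g • (1 : Fin 11) = b ∧ g • (2 : Fin 11) = c ∧ g • (3 : Fin 11) = d := by
  have hinj : Function.Injective ![a, b, c, d] := List.nodup_ofFn.1 h
  obtain ⟨g, hg⟩ := emb_surjective ⟨![a, b, c, d], hinj⟩
  have key : ∀ i : Fin 4, g • (i.castLE (by norm_num) : Fin 11) = ![a, b, c, d] i := fun i =>
    congrFun (congrArg (fun f : Fin 4 ↪ Fin 11 => (f : Fin 4 → Fin 11)) hg) i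
  exact ⟨g, key 0, key 1, key 2, key 3⟩

theorem sharp4 : Sharp4 K0 (Fin 11) where
  exists_map a b c d a' b' c' d' h h' := by
    obtain ⟨g, h0, h1, h2, h3⟩ := exists_tuple h
    obtain ⟨g', h0', h1', h2', h3'⟩ := exists_tuple h'
    refine ⟨g' * g⁻¹, ?_, ?_, ?_, ?_⟩
    · rw [mul_smul, ← h0, inv_smul_smul, h0']
    · rw [mul_smul, ← h1, inv_smul_smul, h1']
    · rw [mul_smul, ← h2, inv_smul_smul, h2']
    · rw [mul_smul, ← h3, inv_smul_smul, h3']
  eq_one g a b c d h ha hb hc hd := by
    obtain ⟨k, h0, h1, h2, h3⟩ := exists_tuple h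
    have h4 : k⁻¹ * g * k = 1 := by
      apply eq_one_of_fix
      · rw [mul_smul, mul_smul, h0, ha, ← h0, inv_smul_smul]
      · rw [mul_smul, mul_smul, h1, hb, ← h1, inv_smul_smul]
      · rw [mul_smul, mul_smul, h2, hc, ← h2, inv_smul_smul]
      · rw [mul_smul, mul_smul, h3, hd, ← h3, inv_smul_smul]
    calc g = k * (k⁻¹ * g * k) * k⁻¹ := by group
      _ = 1 := by rw [h4]; group

/-- subgroups of index 11 are point stabilisers -/
theorem exists_point {K : Subgroup K0} (hK : K.index = 11) : ∃ b : Fin 11, K = MulAction.stabilizer K0 b := by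
  have hc : Nat.card K = 720 := by
    have h := K.card_mul_index
    rw [hK, card_eq] at h
    omega
  obtain ⟨b, hb⟩ := SectRankFour.AutM11.exists_fixed sharp4 (Fintype.card_fin 11) K hc
  refine ⟨b, Subgroup.eq_of_le_of_card_ge hb ?_⟩
  have h1 : (MulAction.stabilizer K0 b).index = 11 := by
    have htr : MulAction.orbit K0 b = Set.univ := by
      rw [Set.eq_univ_iff_forall]
      intro x
      by_cases hx : x = b
      · rw [hx]; exact MulAction.mem_orbit_self b
      · obtain ⟨c, hc1⟩ : ∃ c, c ∉ ({b, x} : Finset (Fin 11)) := by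
          by_contra hcon
          push Not at hcon
          have h5 := Finset.card_le_card (fun y _ => hcon y : (Finset.univ : Finset (Fin 11)) ⊆ {b, x})
          rw [Finset.card_univ, Fintype.card_fin] at h5
          have := Finset.card_le_two (a := b) (b := x)
          omega
        obtain ⟨d, hd1⟩ : ∃ d, d ∉ ({b, x, c} : Finset (Fin 11)) := by
          by_contra hcon
          push Not at hcon
          have h5 := Finset.card_le_card (fun y _ => hcon y : (Finset.univ : Finset (Fin 11)) ⊆ {b, x, c})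
          rw [Finset.card_univ, Fintype.card_fin] at h5
          have := Finset.card_le_three (a := b) (b := x) (c := c)
          omega
        simp only [Finset.mem_insert, Finset.mem_singleton, not_or] at hc1 hd1
        obtain ⟨g, hg, -⟩ := sharp4.exists_map b x c d x b c d
          (nodup4_iff.2 ⟨Ne.symm hx, Ne.symm hc1.1, Ne.symm hd1.1, Ne.symm hc1.2, Ne.symm hd1.2.1, Ne.symm hd1.2.2⟩)
          (nodup4_iff.2 ⟨hx, Ne.symm hc1.2, Ne.symm hd1.2.1, Ne.symm hc1.1, Ne.symm hd1.1, Ne.symm hd1.2.2⟩)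
        exact ⟨g, hg⟩
    rw [MulAction.index_stabilizer, htr, Set.ncard_univ, Nat.card_eq_fintype_card, Fintype.card_fin]
  have h2 := (MulAction.stabilizer K0 b).card_mul_index
  rw [h1, card_eq] at h2
  omega

end Cfsg.Agent.H870.MEleven
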